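import Mathlib
import Cfsg.Agent.Lib.helper15.St2
import Cfsg.Agent.Lib.Helper27.STU.Defs
import Cfsg.Agent.Lib.Helper27.STU.Defs2

/-!
# Project SU5 (S2291, odd side), the ENDGAME (designer helper3): definitions

From the all-parameter tables of the rank two group `SU₅(q)` (relative type `BC₂`) to an abstract Steinberg system `S : SysU F True (Fin 2) G` of helper27's project STU, and then
(`SysU.bijective_of_rep` against helper19's model `MOD.sys C`, `MOD.rep C`) to `G ≃* SU₅(q)`.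

Signed indices of `Fin 2 ⊕ Fin 2` (helper27's `STU/SU5tables.md`): `1 = inl 0`, `2 = inl 1`, `-1 = inr 0`, `-2 = inr 1`.
Data `D : Dat F G`: `φa : SL₂(F) →* G` (short simple root `α = e₁ - e₂`), `φb : SUm F True →* G` (half simple root `β = e₂`, rank one group `SU₃(q)`), `ξ₀ : Lam F True` (`c₀ = ξ₀.c ≠ 0`).
Root maps: `xA t = xs 1 2 t`, `yA t = xs 2 1 t`, `xB ξ = xl 2 ξ`, `yB ξ = xl (-2) ξ`, `nA = ws 1 2 1`, `nB = wl 2 ξ₀`,
`xC ξ = cj nA (xB ξ) = xl 1 ξ`, `yC ξ = cj nA (yB ξ) = xl (-1) ξ`, `xD t = cj nB (xA (t / star c₀)) = xs 1 (-2) t`, `yD t = cj nB (yA (star c₀ * t)) = xs (-2) 1 t`.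

Part 1 (`Pre`) is generic in the index type: raw root maps, the axioms of `SysU` as predicates on pairs of signed indices, and monomial action `Pre.Mon` (= `SysU.IsMon` before the system exists).
-/

set_option autoImplicit false

namespace Cfsg.Agent.Lib.helper3.SU5

open Cfsg.Agent.Lib.helper15.St2 Cfsg.Agent.Lib.Helper27.STU
open Cfsg.Agent.Lib.helper3.STC (ng sws)

universe u v w

/-! ## Part 1: raw root maps -/

/-- raw root maps (no axioms) -/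
structure Pre (F : Type u) [Field F] [StarRing F] (od : Prop) (ι : Type v) (G : Type w) [Group G] where
  xs : ι ⊕ ι → ι ⊕ ι → F → G
  xl : ι ⊕ ι → Lam F od → G

namespace Pre

variable {F : Type u} [Field F] [StarRing F] {od : Prop} {ι : Type v} {G : Type w} [Group G] (P : Pre F od ι G)

/-- the commutator `x y x⁻¹ y⁻¹` -/
def cm (x y : G) : G := x * y * x⁻¹ * y⁻¹

/-- axiom `sym` -/
def Sym : Prop := ∀ a b, a ≠ b → a ≠ ng b → ∀ t, P.xs a b t = P.xs (ng b) (ng a) (-(star t))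

/-- axiom `adds` at `(a, b)` -/
def Adds (a b : ι ⊕ ι) : Prop := ∀ t u, P.xs a b t * P.xs a b u = P.xs a b (t + u)

/-- axiom `addl` at `a` -/
def Addl (a : ι ⊕ ι) : Prop := ∀ ξ η, P.xl a ξ * P.xl a η = P.xl a (ξ * η)

/-- `xl a` commutes with `xs c d` -/
def Cls (a c d : ι ⊕ ι) : Prop := ∀ ξ u, P.xl a ξ * P.xs c d u = P.xs c d u * P.xl a ξ

/-- axiom `ssl` at `(a, b)` -/
def Ssl (a b : ι ⊕ ι) : Prop := ∀ t u, cm (P.xs a b t) (P.xs b (ng a) u) = P.xl a (Lam.tr (t * u))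

/-- axiom `ls` at `(a, b)` -/
def Ls (a b : ι ⊕ ι) : Prop := ∀ ξ u,
  cm (P.xl a ξ) (P.xs (ng a) b u) = P.xs a b (ξ.c * u) * P.xl (ng b) (Lam.act (star u) (Lam.bar ξ))

/-- axiom `hh` at `(a, b)` -/
def Hh (a b : ι ⊕ ι) : Prop := ∀ ξ η, cm (P.xl a ξ) (P.xl b η) = P.xs a (ng b) (-(ξ.v * star η.v))

/-- axiom `rel` at `(a, b)` -/
def Rel (a b : ι ⊕ ι) : Prop := ∀ t u, t ≠ 0 →
  cj (P.xs a b t * P.xs b a (-t⁻¹) * P.xs a b t) (P.xs a b u) = P.xs b a (-(t⁻¹ ^ 2 * u))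

/-- axiom `r1` at `a` -/
def R1 (a : ι ⊕ ι) : Prop := ∃ ρ : ↥(SUm F od) →* G, ∀ ξ, ρ (XpU ξ) = P.xl a ξ ∧ ρ (XmU ξ) = P.xl (ng a) ξ

/-- `g` acts monomially on the root maps (`SysU.IsMon` for raw root maps) -/
def Mon (g : G) (π : Equiv.Perm (ι ⊕ ι)) (d : ι ⊕ ι → F) (d0 : F) : Prop :=
  SysU.MonData π d d0 ∧
    (∀ k l, k ≠ l → k ≠ ng l → ∀ t, cj g (P.xs k l t) = P.xs (π k) (π l) (d k * (d l)⁻¹ * t)) ∧
    ∀ k ξ, cj g (P.xl k ξ) = P.xl (π k) (Lam.act (d k * d0⁻¹) ξ)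

end Pre

/-! ## Part 2: the rank two data -/

section rank1

variable {F : Type u} [Field F] [StarRing F] {od : Prop}

/-- the long Weyl element in the rank one group -/
def WU (ξ : Lam F od) : ↥(SUm F od) := XpU ξ * XmU (Lam.mu ξ) * XpU (Lam.nu ξ)

/-- the flip `M ↦ J M J` (`J` the antidiagonal permutation matrix) on `3 × 3` matrices: it exchanges `XpM ξ` and `XmM ξ` -/
def flipM (M : Matrix (Fin 3) (Fin 3) F) : Matrix (Fin 3) (Fin 3) F := fun i j => M (Fin.rev i) (Fin.rev j)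

end rank1

/-- the data: the two rank one homomorphisms and the parameter of the long Weyl element -/
structure Dat (F : Type u) [Field F] [StarRing F] (G : Type w) [Group G] where
  φa : Matrix.SpecialLinearGroup (Fin 2) F →* G
  φb : ↥(SUm F True) →* G
  ξ₀ : Lam F True

namespace Dat

variable {F : Type u} [Field F] [StarRing F] {G : Type w} [Group G] (D : Dat F G)

/-- `x_α(t) = xs 1 2 t` -/
def xA (t : F) : G := D.φa (xm t)
/-- `x_{-α}(t) = xs 2 1 t` -/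
def yA (t : F) : G := D.φa (ym t)
/-- `x_β(ξ) = xl 2 ξ` -/
def xB (ξ : Lam F True) : G := D.φb (XpU ξ)
/-- `x_{-β}(ξ) = xl (-2) ξ` -/
def yB (ξ : Lam F True) : G := D.φb (XmU ξ)
/-- `n_a = ws 1 2 1` -/
def nA : G := D.xA 1 * D.yA (-1) * D.xA 1
/-- `n_b = wl 2 ξ₀` -/
def nB : G := D.xB D.ξ₀ * D.yB (Lam.mu D.ξ₀) * D.xB (Lam.nu D.ξ₀)
/-- `x_{α+β}(ξ) = xl 1 ξ` -/
def xC (ξ : Lam F True) : G := cj D.nA (D.xB ξ)
/-- `x_{-(α+β)}(ξ) = xl (-1) ξ` -/
def yC (ξ : Lam F True) : G := cj D.nA (D.yB ξ)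
/-- `x_{α+2β}(t) = xs 1 (-2) t` -/
def xD (t : F) : G := cj D.nB (D.xA (t / star D.ξ₀.c))
/-- `x_{-(α+2β)}(t) = xs (-2) 1 t` -/
def yD (t : F) : G := cj D.nB (D.yA (star D.ξ₀.c * t))

/-- the short root maps on all pairs of signed indices (junk value `1` on the pairs `b = ± a`) -/
def xs : Fin 2 ⊕ Fin 2 → Fin 2 ⊕ Fin 2 → F → G
  | Sum.inl 0, Sum.inl 1, t => D.xA t
  | Sum.inr 1, Sum.inr 0, t => D.xA (-(star t))
  | Sum.inl 1, Sum.inl 0, t => D.yA t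
  | Sum.inr 0, Sum.inr 1, t => D.yA (-(star t))
  | Sum.inl 0, Sum.inr 1, t => D.xD t
  | Sum.inl 1, Sum.inr 0, t => D.xD (-(star t))
  | Sum.inr 1, Sum.inl 0, t => D.yD t
  | Sum.inr 0, Sum.inl 1, t => D.yD (-(star t))
  | _, _, _ => 1

/-- the half root maps -/
def xl : Fin 2 ⊕ Fin 2 → Lam F True → G
  | Sum.inl 0, ξ => D.xC ξ
  | Sum.inl 1, ξ => D.xB ξ
  | Sum.inr 0, ξ => D.yC ξ
  | Sum.inr 1, ξ => D.yB ξ

/-- the raw root maps of the data -/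
def pre : Pre F True (Fin 2) G := ⟨D.xs, D.xl⟩

end Dat

/-- The tables: what the Steinberg system needs from the presented group (ALL parameters).  `a2_*`, `b2_*`: the squares of the Weyl elements act on the simple root maps of the other node;
`a_xD`, `b_xC`: the reflections in `α`, `β` act on the root maps of the orthogonal roots `α + 2β`, `α + β`; the braid relation; the four base commutator families
(`C5`, `C6` of helper27's table are Weyl conjugates of `C4`). -/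
structure Tab5 {F : Type u} [Field F] [StarRing F] {G : Type w} [Group G] (D : Dat F G) : Prop where
  c0 : D.ξ₀.c ≠ 0
  a2_xB : ∀ ξ, cj (D.nA * D.nA) (D.xB ξ) = D.xB (Lam.act (-1) ξ)
  a2_yB : ∀ ξ, cj (D.nA * D.nA) (D.yB ξ) = D.yB (Lam.act (-1) ξ)
  b2_xA : ∀ t, cj (D.nB * D.nB) (D.xA t) = D.xA (star D.ξ₀.c / D.ξ₀.c * t)
  b2_yA : ∀ t, cj (D.nB * D.nB) (D.yA t) = D.yA (D.ξ₀.c / star D.ξ₀.c * t)
  a_xD : ∀ t, cj D.nA (D.xD t) = D.xD (star t)
  b_xC : ∀ ξ, cj D.nB (D.xC ξ) = D.xC (Lam.act (-(D.ξ₀.c / star D.ξ₀.c)) ξ)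
  braid : D.nA * D.nB * D.nA * D.nB = D.nB * D.nA * D.nB * D.nA
  C4 : ∀ t ξ, D.xA t * D.xC ξ = D.xC ξ * D.xA t
  C2 : ∀ ξ η, Pre.cm (D.xB ξ) (D.xC η) = D.xD (star ξ.v * η.v)
  C3 : ∀ t u, Pre.cm (D.xA t) (D.xD u) = D.xC (Lam.tr (-(t * star u)))
  C1 : ∀ ξ t, Pre.cm (D.xB ξ) (D.xA t) = D.xD (star ξ.c * t) * D.xC (Lam.act (-t) (Lam.bar ξ))

end Cfsg.Agent.Lib.helper3.SU5
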